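import Cfsg.Agent.Lib.LinGroup.SympSimple

/-!
Two generators of the symplectic groups: the shift of the planes and transvections.
-/

set_option autoImplicit false

namespace Cfsg.Agent.Lib.SympGen

open Matrix
open Cfsg.Agent.Lib.LinGroup Cfsg.Agent.Lib.Forms

variable {F : Type*} [Field F] {m : ℕ}

local notation "V" => (Fin m ⊕ Fin m → F)
local notation "Sp" => (Matrix.symplecticGroup (Fin m) F)
local notation "B" => Cfsg.sympForm m F

/-- All transvections at `v` lie in `L`. -/
def InX (L : Subgroup Sp) (v : V) : Prop := ∀ c : F, sympTransElem v c ∈ L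

/-- The vector `e_i`. -/
def ev (i : Fin m) : V := Pi.single (Sum.inl i) 1

/-- The vector `f_i`. -/
def fv (i : Fin m) : V := Pi.single (Sum.inr i) 1

/-- Supported on the planes with index in `S`. -/
def SuppIn (S : Set (Fin m)) (v : V) : Prop := ∀ i, i ∉ S → v (.inl i) = 0 ∧ v (.inr i) = 0

theorem form_ev (x : V) (i : Fin m) : B x (ev i) = x (.inr i) := by
  rw [sympForm_apply, Finset.sum_eq_single i]
  · simp [ev]
  · intro j _ hj; simp [ev, hj]
  · intro h; exact absurd (Finset.mem_univ i) h

theorem form_fv (x : V) (i : Fin m) : B x (fv i) = -x (.inl i) := by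
  rw [sympForm_apply, Finset.sum_eq_single i]
  · simp [fv]
  · intro j _ hj; simp [fv, hj]
  · intro h; exact absurd (Finset.mem_univ i) h

theorem form_disjoint {S S' : Set (Fin m)} (hd : Disjoint S S') {u v : V} (hu : SuppIn S u) (hv : SuppIn S' v) :
    B u v = 0 := by
  rw [sympForm_apply]
  refine Finset.sum_eq_zero fun i _ => ?_
  by_cases hi : i ∈ S
  · simp [(hv i (Set.disjoint_left.1 hd hi)).1, (hv i (Set.disjoint_left.1 hd hi)).2]
  · simp [(hu i hi).1, (hu i hi).2]

variable {L : Subgroup (Matrix.symplecticGroup (Fin m) F)}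

theorem InX.zero : InX L (0 : V) := fun c => by
  rw [show sympTransElem (0 : V) c = 1 from spVec_ext fun x => by simp [spVec_sympTransElem, spVec_one]]
  exact L.one_mem

theorem InX.smul {v : V} (h : InX L v) (a : F) : InX L (a • v) := fun c => by
  rw [sympTransElem_smul]; exact h _

theorem InX.map {g : Sp} (hg : g ∈ L) {v : V} (h : InX L v) : InX L (spVec g v) := fun c => by
  rw [← sympTransElem_conj]; exact L.mul_mem (L.mul_mem hg (h c)) (L.inv_mem hg)

theorem InX.of_inv_map {g : Sp} (hg : g ∈ L) {v : V} (h : InX L (spVec g v)) : InX L v := by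
  have := h.map (L.inv_mem hg)
  rwa [spVec_inv_cancel'] at this

theorem InX.add_smul {v w : V} (hv : InX L v) (hw : InX L w) (hne : B v w ≠ 0) (k : F) :
    InX L (v + k • w) := by
  have := hv.map (hw (k / B v w))
  rwa [spVec_sympTransElem, div_mul_cancel₀ _ hne] at this

theorem InX.comb {v w : V} (hv : InX L v) (hw : InX L w) (hne : B v w ≠ 0) (a b : F) :
    InX L (a • v + b • w) := by
  by_cases ha : a = 0
  · subst ha; rw [zero_smul, zero_add]; exact hw.smul b
  · have := (hv.add_smul hw hne (b / a)).smul a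
    rwa [_root_.smul_add, smul_smul, mul_div_cancel₀ _ ha] at this

theorem inX_plane {i : Fin m} (he : InX L (ev i)) (hf : InX L (fv i)) {v : V}
    (hv : SuppIn {i} v) : InX L v := by
  have h := he.comb hf (by rw [form_fv]; simp [ev]) (v (.inl i)) (v (.inr i))
  convert h using 1
  funext x
  rcases x with j | j <;> by_cases hj : j = i
  all_goals first
    | (subst hj; simp [ev, fv])
    | simp [ev, fv, hj, (hv j hj).1, (hv j hj).2]

/-- The first component can be replaced by any other non-zero one. -/
theorem InX.move {S S' : Set (Fin m)} (hd : Disjoint S S') (hS : ∀ v : V, SuppIn S v → InX L v) {p p' q : V}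
    (hp : SuppIn S p) (hp' : SuppIn S p') (hq : SuppIn S' q) (hp0 : p ≠ 0) (hp'0 : p' ≠ 0)
    (hz : InX L (p + q)) : InX L (p' + q) := by
  have step : ∀ p₁ p₂ : V, SuppIn S p₁ → SuppIn S p₂ → B p₁ p₂ ≠ 0 → InX L (p₁ + q) → InX L (p₂ + q) := by
    intro p₁ p₂ h1 h2 hne hz
    have hsub : SuppIn S (p₂ - p₁) := fun i hi => by simp [(h1 i hi).1, (h1 i hi).2, (h2 i hi).1, (h2 i hi).2]
    have e : B (p₁ + q) (p₂ - p₁) = B p₁ p₂ := by
      rw [sympForm_add_left, form_disjoint hd.symm hq hsub, add_zero, sub_eq_add_neg, sympForm_add_right,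
        ← neg_one_smul F p₁, sympForm_smul_right, sympForm_self, mul_zero, add_zero]
    have := hz.add_smul (hS _ hsub) (by rw [e]; exact hne) 1
    rwa [one_smul, add_right_comm, add_sub_cancel] at this
  have part : ∀ r : V, SuppIn S r → r ≠ 0 → ∃ a : V, SuppIn S a ∧ B r a ≠ 0 := by
    intro r hr hr0
    obtain ⟨x, hx⟩ := Function.ne_iff.1 hr0
    rcases x with i | i
    · refine ⟨fv i, fun j hj => ?_, by rw [form_fv]; simpa using hx⟩
      have : i ≠ j := fun e => hx (by subst e; exact (hr i hj).1)
      simp [fv, this.symm]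
    · refine ⟨ev i, fun j hj => ?_, by rw [form_ev]; simpa using hx⟩
      have : i ≠ j := fun e => hx (by subst e; exact (hr i hj).2)
      simp [ev, this.symm]
  obtain ⟨a, ha, hpa⟩ := part p hp hp0
  obtain ⟨b, hb, hpb⟩ := part p' hp' hp'0
  obtain ⟨c, hc, hc1, hc2⟩ : ∃ c : V, SuppIn S c ∧ B p c ≠ 0 ∧ B p' c ≠ 0 := by
    by_cases h1 : B p' a = 0
    · by_cases h2 : B p b = 0
      · refine ⟨a + b, fun i hi => by simp [(ha i hi).1, (ha i hi).2, (hb i hi).1, (hb i hi).2], ?_, ?_⟩
        · rw [sympForm_add_right, h2, add_zero]; exact hpa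
        · rw [sympForm_add_right, h1, zero_add]; exact hpb
      · exact ⟨b, hb, h2, hpb⟩
    · exact ⟨a, ha, hpa, h1⟩
  refine step c p' hc hp' ?_ (step p c hp hc hc1 hz)
  rw [Forms.sympForm_comm]; exact neg_ne_zero.2 hc2

/-- Two sets of planes joined by a mixed vector. -/
theorem InX.glue {S S' : Set (Fin m)} (hd : Disjoint S S') (hS : ∀ v : V, SuppIn S v → InX L v)
    (hS' : ∀ v : V, SuppIn S' v → InX L v) {p q : V} (hp : SuppIn S p) (hq : SuppIn S' q) (hp0 : p ≠ 0)
    (hq0 : q ≠ 0) (hz : InX L (p + q)) {v : V} (hv : SuppIn (S ∪ S') v) : InX L v := by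
  classical
  set v₁ : V := fun x => Sum.elim (fun i => if i ∈ S then v (.inl i) else 0)
    (fun i => if i ∈ S then v (.inr i) else 0) x with hv1
  set v₂ : V := fun x => Sum.elim (fun i => if i ∈ S then 0 else v (.inl i))
    (fun i => if i ∈ S then 0 else v (.inr i)) x with hv2
  have e : v = v₁ + v₂ := by
    funext x; rcases x with i | i <;> by_cases hi : i ∈ S <;> simp [hv1, hv2, hi]
  have h1 : SuppIn S v₁ := fun i hi => by simp [hv1, hi]
  have h2 : SuppIn S' v₂ := fun i hi => by
    by_cases hiS : i ∈ S
    · simp [hv2, hiS]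
    · simpa [hv2, hiS] using hv i (by simp [hiS, hi])
  by_cases h10 : v₁ = 0
  · rw [e, h10, zero_add]; exact hS' _ h2
  by_cases h20 : v₂ = 0
  · rw [e, h20, add_zero]; exact hS _ h1
  rw [e, add_comm]
  refine InX.move hd.symm hS' hq h2 h1 hq0 h20 ?_
  rw [add_comm]
  exact InX.move hd hS hp h1 hq hp0 h10 hz

theorem eq_top_of_inX (h : ∀ v : V, InX L v) : L = ⊤ := by
  rw [eq_top_iff, ← Forms.closure_sympTransSet_eq_top, Subgroup.closure_le]
  rintro A ⟨w, c, hA⟩
  obtain rfl : A = sympTransElem w c := Subtype.ext hA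
  exact h w c

/-- All planes and mixed vectors between neighbours give everything. -/
theorem eq_top_of_planes (he : ∀ i, InX L (ev i)) (hf : ∀ i, InX L (fv i))
    (hmix : ∀ i j : Fin m, (j : ℕ) = i + 1 → ∃ p q : V, SuppIn {i} p ∧ SuppIn {j} q ∧ p ≠ 0 ∧ q ≠ 0 ∧ InX L (p + q)) :
    L = ⊤ := by
  refine eq_top_of_inX fun v => ?_
  have main : ∀ k, k ≤ m → ∀ v : V, SuppIn {i : Fin m | (i : ℕ) < k} v → InX L v := by
    intro k
    induction k with
    | zero =>
      intro _ v hv
      rw [show v = 0 from funext fun x => by rcases x with i | i <;> simp [hv i (by simp)]]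
      exact InX.zero
    | succ k ih =>
      intro hk v hv
      by_cases hk0 : k = 0
      · subst hk0
        exact inX_plane (he ⟨0, hk⟩) (hf _) fun i hi => hv i fun hlt => hi (Fin.ext (by simpa using hlt))
      obtain ⟨p, q, hp, hq, hp0, hq0, hz⟩ := hmix ⟨k - 1, by omega⟩ ⟨k, hk⟩ (by simp; omega)
      refine InX.glue (S := {i : Fin m | (i : ℕ) < k}) (S' := {⟨k, hk⟩}) ?_ (ih (by omega))
        (fun v hv => inX_plane (he _) (hf _) hv) (fun i hi => hp i fun e => hi ?_) hq hp0 hq0 hz
        fun i hi => hv i fun hlt => hi ?_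
      · simp
      · rw [Set.mem_singleton_iff.1 e]; show k - 1 < k; omega
      · simp only [Set.mem_union, Set.mem_singleton_iff, Fin.ext_iff]
        simp only [Set.mem_ofPred_eq] at hlt ⊢
        omega
  exact main m le_rfl v fun i hi => absurd i.isLt (by simpa using hi)

/-! ### Special elements -/

/-- The short root element of an orthogonal pair `v, w`. -/
def shortElem (v w : V) (t : F) : Sp :=
  sympTransElem (v + w) t * sympTransElem v (-t) * sympTransElem w (-t)

theorem spVec_shortElem {v w : V} (h : B v w = 0) (t : F) (x : V) :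
    spVec (shortElem v w t) x = x + (t * B x v) • w + (t * B x w) • v := by
  have h' : B w v = 0 := by rw [Forms.sympForm_comm, h, neg_zero]
  simp only [shortElem, spVec_mul, spVec_sympTransElem, sympForm_add_left, sympForm_smul_left,
    sympForm_add_right, Forms.sympForm_self, h, h']
  match_scalars <;> ring

theorem shortElem_conj (g : Sp) (v w : V) (t : F) :
    g * shortElem v w t * g⁻¹ = shortElem (spVec g v) (spVec g w) t := by
  simp only [shortElem, ← sympTransElem_conj, spVec_add]
  rw [← spVec_add, ← sympTransElem_conj]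
  group

theorem shortElem_smul {v w : V} (h : B v w = 0) (a b t : F) :
    shortElem (a • v) (b • w) t = shortElem v w (a * b * t) := by
  refine spVec_ext fun x => ?_
  rw [spVec_shortElem (by rw [sympForm_smul_left, sympForm_smul_right, h]; simp), spVec_shortElem h]
  simp only [sympForm_smul_right]
  module

theorem shortElem_add {v w : V} (h : B v w = 0) (s t : F) :
    shortElem v w s * shortElem v w t = shortElem v w (s + t) := by
  have h' : B w v = 0 := by rw [Forms.sympForm_comm, h, neg_zero]
  refine spVec_ext fun x => ?_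
  simp only [spVec_mul, spVec_shortElem h, sympForm_add_left, sympForm_smul_left, Forms.sympForm_self, h, h']
  module

theorem shortElem_zero (v w : V) : shortElem v w (0 : F) = 1 := by
  simp [shortElem, sympTransElem_zero]

theorem shortElem_inv {v w : V} (h : B v w = 0) (t : F) : (shortElem v w t)⁻¹ = shortElem v w (-t) :=
  inv_eq_of_mul_eq_one_right (by rw [shortElem_add h, add_neg_cancel, shortElem_zero])

theorem shortElem_pow {v w : V} (h : B v w = 0) (t : F) (n : ℕ) :
    shortElem v w t ^ n = shortElem v w (n * t) := by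
  induction n with
  | zero => simp [shortElem_zero]
  | succ n ih => rw [pow_succ, ih, shortElem_add h]; congr 1; push_cast; ring

theorem sympTrans_pow (v : V) (t : F) (n : ℕ) : sympTransElem v t ^ n = sympTransElem v (n * t) := by
  induction n with
  | zero => simp [sympTransElem_zero]
  | succ n ih => rw [pow_succ, ih, sympTransElem_mul]; congr 1; push_cast; ring

theorem sympTrans_comm {v w : V} (h : B v w = 0) (s t : F) :
    Commute (sympTransElem v s) (sympTransElem w t) := by
  have h' : B w v = 0 := by rw [Forms.sympForm_comm, h, neg_zero]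
  refine spVec_ext fun x => ?_
  simp only [spVec_mul, spVec_sympTransElem, sympForm_add_left, sympForm_smul_left, h, h']
  module

/-- The diagonal element `e_i ↦ d_i e_i`, `f_i ↦ d_i⁻¹ f_i`. -/
noncomputable def torElem (d : Fin m → Fˣ) : Sp :=
  spMk (LinearEquiv.ofLinear
      (LinearMap.pi fun x => (Sum.elim (fun i => (d i : F)) (fun i => ((d i)⁻¹ : Fˣ)) x) • LinearMap.proj x)
      (LinearMap.pi fun x => (Sum.elim (fun i => (((d i)⁻¹ : Fˣ) : F)) (fun i => (d i : F)) x) • LinearMap.proj x)
      (LinearMap.ext fun v => funext fun x => by rcases x with i | i <;> simp)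
      (LinearMap.ext fun v => funext fun x => by rcases x with i | i <;> simp))
    (fun u v => by
      rw [sympForm_apply, sympForm_apply]
      refine Finset.sum_congr rfl fun i _ => ?_
      simp only [LinearEquiv.ofLinear_apply, LinearMap.pi_apply, LinearMap.smul_apply, LinearMap.coe_proj,
        Function.eval, Sum.elim_inl, Sum.elim_inr, smul_eq_mul, Units.val_inv_eq_inv_val]
      field_simp)

theorem spVec_torElem (d : Fin m → Fˣ) (v : V) :
    spVec (torElem d) v =
      fun x => (Sum.elim (fun i => (d i : F)) (fun i => ((d i)⁻¹ : Fˣ)) x) * v x := by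
  rw [spVec, torElem, spMk_mulVec]
  funext x
  simp

theorem torElem_mul (d d' : Fin m → Fˣ) : torElem d * torElem d' = torElem (d * d') := by
  refine spVec_ext fun v => ?_
  simp only [spVec_mul, spVec_torElem]
  funext x
  rcases x with i | i <;> simp <;> ring

theorem torElem_one : torElem (1 : Fin m → Fˣ) = 1 := by
  refine spVec_ext fun v => ?_
  simp only [spVec_torElem, spVec_one]
  funext x
  rcases x with i | i <;> simp

theorem torElem_inv (d : Fin m → Fˣ) : (torElem d)⁻¹ = torElem d⁻¹ :=
  inv_eq_of_mul_eq_one_right (by rw [torElem_mul, mul_inv_cancel, torElem_one])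

theorem torElem_comm (d d' : Fin m → Fˣ) : Commute (torElem d) (torElem d') := by
  show _ = _
  rw [torElem_mul, torElem_mul, mul_comm]

theorem torElem_pow (d : Fin m → Fˣ) (n : ℕ) : torElem d ^ n = torElem (d ^ n) := by
  induction n with
  | zero => simp [torElem_one]
  | succ n ih => rw [pow_succ, ih, torElem_mul, pow_succ]

theorem torElem_ev (d : Fin m → Fˣ) (i : Fin m) : spVec (torElem d) (ev i) = (d i : F) • ev i := by
  rw [spVec_torElem]
  funext x
  rcases x with j | j <;> by_cases hj : j = i
  all_goals first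
    | (subst hj; simp [ev])
    | simp [ev, hj]

theorem torElem_fv (d : Fin m → Fˣ) (i : Fin m) :
    spVec (torElem d) (fv i) = (((d i)⁻¹ : Fˣ) : F) • fv i := by
  rw [spVec_torElem]
  funext x
  rcases x with j | j <;> by_cases hj : j = i
  all_goals first
    | (subst hj; simp [fv])
    | simp [fv, hj]

/-- The element `z = T_{e_i}(1) T_{f_i}(-1)`. -/
def planeElem (i : Fin m) : Sp := sympTransElem (ev i) 1 * sympTransElem (fv i) (-1)

theorem spVec_planeElem (i : Fin m) (v : V) :
    spVec (planeElem i) v = v + (v (.inl i) + v (.inr i)) • ev i + v (.inl i) • fv i := by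
  simp only [planeElem, spVec_mul, spVec_sympTransElem, form_ev, form_fv]
  simp only [Pi.add_apply, Pi.smul_apply, fv, Pi.single_eq_same, smul_eq_mul]
  module

theorem exists_pow_planeElem (i : Fin m) {p : ℕ} (hp23 : p = 2 ∨ p = 3) (hp : (p : F) = 0) :
    ∃ n : ℕ, (n : F) ≠ 0 ∧ planeElem (F := F) i ^ n = 1 := by
  have key : ∀ v : V, spVec (planeElem i) (spVec (planeElem i) v) =
      v + (4 * v (.inl i) + 3 * v (.inr i)) • ev i + (3 * v (.inl i) + v (.inr i)) • fv i := fun v => by
    simp only [spVec_planeElem, Pi.add_apply, Pi.smul_apply, ev, fv, Pi.single_eq_same, smul_eq_mul,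
      Pi.single_eq_of_ne (show Sum.inl i ≠ Sum.inr i by simp), Pi.single_eq_of_ne (show Sum.inr i ≠ Sum.inl i by simp)]
    match_scalars <;> ring
  rcases hp23 with rfl | rfl
  · have h2 : (2 : F) = 0 := by exact_mod_cast hp
    refine ⟨3, fun e => one_ne_zero (α := F) (by push_cast at e; linear_combination e - h2), spVec_ext fun v => ?_⟩
    rw [pow_succ, pow_two, spVec_mul, spVec_mul, key, spVec_planeElem, spVec_one]
    simp only [Pi.add_apply, Pi.smul_apply, ev, fv, Pi.single_eq_same, smul_eq_mul,
      Pi.single_eq_of_ne (show Sum.inl i ≠ Sum.inr i by simp), Pi.single_eq_of_ne (show Sum.inr i ≠ Sum.inl i by simp)]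
    match_scalars
    all_goals first
      | linear_combination (6 * v (.inl i) + 4 * v (.inr i)) * h2
      | linear_combination (4 * v (.inl i) + 2 * v (.inr i)) * h2
      | ring
  · have h3 : (3 : F) = 0 := by exact_mod_cast hp
    refine ⟨4, fun e => one_ne_zero (α := F) (by push_cast at e; linear_combination e - h3), spVec_ext fun v => ?_⟩
    rw [show (4 : ℕ) = 2 * 2 from rfl, pow_mul, pow_two (planeElem i), pow_two, spVec_mul, spVec_mul, spVec_mul,
      key, key, spVec_one]
    simp only [Pi.add_apply, Pi.smul_apply, ev, fv, Pi.single_eq_same, smul_eq_mul,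
      Pi.single_eq_of_ne (show Sum.inl i ≠ Sum.inr i by simp), Pi.single_eq_of_ne (show Sum.inr i ≠ Sum.inl i by simp)]
    match_scalars
    all_goals first
      | linear_combination (11 * v (.inl i) + 7 * v (.inr i)) * h3
      | linear_combination (7 * v (.inl i) + 4 * v (.inr i)) * h3
      | ring

end Cfsg.Agent.Lib.SympGen
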