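import Cfsg.Agent.Lib.SympGen.Basic

/-!
The symplectic group over a finite field is generated by two elements.
-/

set_option autoImplicit false

namespace Cfsg.Agent.Lib.SympGen

open Matrix
open Cfsg.Agent.Lib.LinGroup Cfsg.Agent.Lib.Forms

variable {F : Type*} [Field F] {n : ℕ}

local notation "V" => (Fin (n + 2) ⊕ Fin (n + 2) → F)
local notation "Sp" => (Matrix.symplecticGroup (Fin (n + 2)) F)
local notation "B" => Cfsg.sympForm (n + 2) F
local notation "lastI" => (Fin.last (n + 1))

/-- The shift of the coordinates. -/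
def shiftMap : V →ₗ[F] V where
  toFun v := Sum.elim (Fin.cons (-v (.inr lastI)) fun i : Fin (n + 1) => v (.inl i.castSucc))
    (Fin.cons (v (.inl lastI)) fun i : Fin (n + 1) => v (.inr i.castSucc))
  map_add' u v := by
    funext x
    rcases x with i | i <;> cases i using Fin.cases <;> simp [add_comm]
  map_smul' a v := by
    funext x
    rcases x with i | i <;> cases i using Fin.cases <;> simp

theorem shiftMap_injective : Function.Injective (shiftMap (F := F) (n := n)) := by
  intro u v h
  funext x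
  rcases x with i | i <;> cases i using Fin.lastCases with
  | last =>
    first
      | simpa [shiftMap] using congrFun h (.inr 0)
      | simpa [shiftMap] using congrFun h (.inl 0)
  | cast j =>
    first
      | simpa [shiftMap] using congrFun h (.inl j.succ)
      | simpa [shiftMap] using congrFun h (.inr j.succ)

/-- The shift as an element of the symplectic group. -/
noncomputable def shift : Sp :=
  spMk (LinearEquiv.ofInjectiveEndo shiftMap shiftMap_injective) fun u v => by
    simp only [LinearEquiv.coe_ofInjectiveEndo]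
    rw [sympForm_apply, sympForm_apply]
    conv_lhs => rw [Fin.sum_univ_succ]
    conv_rhs => rw [Fin.sum_univ_castSucc]
    simp [shiftMap]
    ring

theorem spVec_shift (v : V) : spVec shift v = shiftMap v := by
  rw [spVec, shift, spMk_mulVec]
  rfl

theorem shift_ev (i : Fin (n + 1)) : spVec shift (ev i.castSucc : V) = ev i.succ := by
  rw [spVec_shift]
  funext x
  rcases x with j | j <;> cases j using Fin.cases <;>
    simp [shiftMap, ev, Pi.single_apply, Fin.succ_ne_zero, (Fin.castSucc_lt_last i).ne, (Fin.succ_ne_zero i).symm]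

theorem shift_fv (i : Fin (n + 1)) : spVec shift (fv i.castSucc : V) = fv i.succ := by
  rw [spVec_shift]
  funext x
  rcases x with j | j <;> cases j using Fin.cases <;>
    simp [shiftMap, fv, Pi.single_apply, Fin.succ_ne_zero, (Fin.castSucc_lt_last i).ne, (Fin.succ_ne_zero i).symm]

theorem shift_ev_last : spVec shift (ev lastI : V) = fv 0 := by
  rw [spVec_shift]
  funext x
  rcases x with j | j <;> cases j using Fin.cases <;>
    simp [shiftMap, ev, fv, Pi.single_apply, Fin.succ_ne_zero, (Fin.castSucc_lt_last _).ne]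

theorem shift_fv_last : spVec shift (fv lastI : V) = (-1 : F) • ev 0 := by
  rw [spVec_shift]
  funext x
  rcases x with j | j <;> cases j using Fin.cases <;>
    simp [shiftMap, ev, fv, Pi.single_apply, Fin.succ_ne_zero, (Fin.castSucc_lt_last _).ne]

theorem shift_torElem (d : Fin (n + 2) → Fˣ) :
    shift * torElem d = torElem (Fin.cons (d lastI)⁻¹ fun i : Fin (n + 1) => d i.castSucc) * shift := by
  refine spVec_ext fun v => ?_
  simp only [spVec_mul, spVec_torElem, spVec_shift]
  funext x
  rcases x with j | j <;> cases j using Fin.cases <;> simp [shiftMap]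

theorem suppIn_ev {m : ℕ} (i : Fin m) : SuppIn {i} (ev i : Fin m ⊕ Fin m → F) := fun j hj => by
  have hji : j ≠ i := hj
  simp [ev, Pi.single_apply, hji]

theorem suppIn_fv {m : ℕ} (i : Fin m) : SuppIn {i} (fv i : Fin m ⊕ Fin m → F) := fun j hj => by
  have hji : j ≠ i := hj
  simp [fv, Pi.single_apply, hji]

variable {L : Subgroup (Matrix.symplecticGroup (Fin (n + 2)) F)}

theorem inX_ev_all (hσ : shift ∈ L) (h0 : InX L (ev 0 : V)) (i : Fin (n + 2)) : InX L (ev i : V) := by
  induction i using Fin.induction with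
  | zero => exact h0
  | succ i ih => rw [← shift_ev]; exact ih.map hσ

theorem inX_fv_all (hσ : shift ∈ L) (h0 : InX L (fv 0 : V)) (i : Fin (n + 2)) : InX L (fv i : V) := by
  induction i using Fin.induction with
  | zero => exact h0
  | succ i ih => rw [← shift_fv]; exact ih.map hσ

theorem eq_top_of_shift (hσ : shift ∈ L) (he : InX L (ev 0 : V)) (hf : InX L (fv 0 : V))
    (hw : InX L (ev 0 + ev 1 : V)) : L = ⊤ := by
  have hmix : ∀ i : Fin (n + 1), InX L (ev i.castSucc + ev i.succ : V) := by
    intro i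
    induction i using Fin.induction with
    | zero => simpa using hw
    | succ i ih =>
      have := ih.map hσ
      rwa [spVec_add, shift_ev, ← Fin.castSucc_succ, shift_ev] at this
  refine eq_top_of_planes (inX_ev_all hσ he) (inX_fv_all hσ hf) fun i j hij => ?_
  obtain ⟨i', rfl⟩ : ∃ i' : Fin (n + 1), i'.castSucc = i := ⟨⟨i, by omega⟩, rfl⟩
  obtain rfl : j = i'.succ := Fin.ext (by simpa using hij)
  refine ⟨ev i'.castSucc, ev i'.succ, suppIn_ev _, suppIn_ev _, ?_, ?_, hmix i'⟩
  · simp [ev]
  · simp [ev]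

/-- Squares span a finite field. -/
theorem all_of_squares [Finite F] {P : F → Prop} (hadd : ∀ s t, P s → P t → P (s + t)) (hneg : ∀ s, P s → P (-s))
    {β : F} (hβ : β ≠ 0) (hsq : ∀ z : F, P (z * z * β)) (t : F) : P t := by
  by_cases h2 : (2 : F) = 0
  · have : CharP F 2 := CharTwo.of_one_ne_zero_of_two_eq_zero one_ne_zero h2
    obtain ⟨z, hz⟩ : IsSquare (t / β) := FiniteField.isSquare_of_char_two (ringChar.eq F 2) _
    have := hsq z
    rwa [← hz, div_mul_cancel₀ _ hβ] at this
  · have := hadd _ _ (hsq (t / β / (2 * 2) + 1)) (hneg _ (hsq (t / β / (2 * 2) - 1)))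
    convert this using 1
    field_simp
    ring

theorem exists_gen_big [Finite F] (hq : 4 ≤ Nat.card F) :
    ∃ a b : Sp, Subgroup.closure ({a, b} : Set Sp) = ⊤ := by
  obtain ⟨c, hcgen⟩ := IsCyclic.exists_monoid_generator (α := Fˣ)
  have hord : orderOf c = Nat.card F - 1 := by
    rw [orderOf_eq_card_of_forall_mem_powers hcgen, Nat.card_units]
  have hc2 : c ^ 2 ≠ 1 := fun e => by
    have := Nat.le_of_dvd (by omega) (orderOf_dvd_of_pow_eq_one e)
    omega
  set d : Fin (n + 2) → Fˣ := fun i => if i = 0 ∨ i = lastI then c else 1 with hd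
  have hd0 : d 0 = c := by simp [hd]
  have hdl : d lastI = c := by simp [hd]
  have horth : B (ev 0 : V) (fv lastI) = 0 := by
    rw [form_fv]; simp [ev, Ne.symm (Fin.last_pos' (n := n + 1)).ne]
  set U : Sp := shortElem (ev 0) (fv lastI) 1 with hU
  set T : Sp := sympTransElem (ev 0) 1 with hT
  refine ⟨torElem d * U, T * shift, ?_⟩
  set L := Subgroup.closure ({torElem d * U, T * shift} : Set Sp)
  have haL : torElem d * U ∈ L := Subgroup.subset_closure (Or.inl rfl)
  have hbL : T * shift ∈ L := Subgroup.subset_closure (Or.inr rfl)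
  have hcomm : Commute (torElem d) U := by
    have e : torElem d * U * (torElem d)⁻¹ = U := by
      rw [hU, shortElem_conj, torElem_ev, torElem_fv, shortElem_smul horth, hd0, hdl]
      simp
    exact mul_inv_eq_iff_eq_mul.1 e
  have hdpow : d ^ (Nat.card F - 1) = 1 := by
    funext i
    rw [Pi.pow_apply, Pi.one_apply, ← hord]
    simp only [hd]
    split_ifs <;> simp [pow_orderOf_eq_one]
  have hU1 : U⁻¹ ∈ L := by
    have := L.pow_mem haL (Nat.card F - 1)
    rw [hcomm.mul_pow, torElem_pow, hdpow, torElem_one, one_mul, hU, shortElem_pow horth, mul_one] at this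
    rw [hU, shortElem_inv horth]
    haveI ftF : Fintype F := Fintype.ofFinite F
    rwa [Nat.cast_sub (by omega : 1 ≤ Nat.card F), Nat.card_eq_fintype_card, FiniteField.cast_card_eq_zero,
      zero_sub, Nat.cast_one] at this
  have hh : torElem d ∈ L := by simpa using L.mul_mem haL hU1
  have hUL : U ∈ L := by simpa using L.inv_mem hU1
  have hpow : ∀ u : Fˣ, ∃ k : ℕ, c ^ k = u := fun u => hcgen u
  -- the long root subgroup
  set d' : Fin (n + 2) → Fˣ := Fin.cons (d lastI)⁻¹ fun i : Fin (n + 1) => d i.castSucc with hd'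
  set G : Sp := torElem d * (torElem d')⁻¹ with hG
  set α : F := ((c : Fˣ) : F) ^ 2 with hα
  set γ : F := α - α * α with hγ
  have hTd : torElem d * T = sympTransElem (ev 0) α * torElem d := by
    rw [hT, ← mul_inv_eq_iff_eq_mul, sympTransElem_conj, torElem_ev, sympTransElem_smul, hd0, mul_one]
  have hTG : G * sympTransElem (ev 0 : V) (-1) = sympTransElem (ev 0) (-(α * α)) * G := by
    rw [← mul_inv_eq_iff_eq_mul, sympTransElem_conj, hG, torElem_inv, torElem_mul, torElem_ev, sympTransElem_smul]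
    congr 1
    simp [hd', hd0, hdl, hα]
    ring
  have hb' : sympTransElem (ev 0 : V) γ * G ∈ L := by
    have := L.mul_mem (L.mul_mem (L.mul_mem hh hbL) (L.inv_mem hh)) (L.inv_mem hbL)
    convert this using 1
    have e : shift * (torElem d)⁻¹ * shift⁻¹ = (torElem d')⁻¹ := by
      have e0 := shift_torElem (F := F) d
      rw [← hd'] at e0
      rw [show shift * (torElem d)⁻¹ * shift⁻¹ = (shift * torElem d * shift⁻¹)⁻¹ by group, e0, mul_inv_cancel_right]
    calc sympTransElem (ev 0 : V) γ * G
        = sympTransElem (ev 0) α * (sympTransElem (ev 0) (-(α * α)) * G) := by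
          rw [← mul_assoc (sympTransElem _ α), sympTransElem_mul, hγ, sub_eq_add_neg]
      _ = sympTransElem (ev 0) α * torElem d * ((shift * (torElem d)⁻¹ * shift⁻¹) * sympTransElem (ev 0) (-1)) := by
          rw [← hTG, hG, e]; simp only [mul_assoc]
      _ = _ := by
          rw [← hTd, hT, ← sympTransElem_inv]; group
  have hl : sympTransElem (ev 0 : V) (α * γ - γ) ∈ L := by
    have := L.mul_mem (L.mul_mem (L.mul_mem hh hb') (L.inv_mem hh)) (L.inv_mem hb')
    convert this using 1
    have eG : Commute G (torElem d) := by rw [hG, torElem_inv, torElem_mul]; exact torElem_comm _ _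
    have e1 : torElem d * (sympTransElem (ev 0 : V) γ * G) * (torElem d)⁻¹ = sympTransElem (ev 0) (α * γ) * G := by
      have hc : torElem d * sympTransElem (ev 0 : V) γ = sympTransElem (ev 0) (α * γ) * torElem d := by
        rw [← mul_inv_eq_iff_eq_mul, sympTransElem_conj, torElem_ev, sympTransElem_smul, hd0]
      rw [← mul_assoc, hc, mul_assoc _ (torElem d) G, ← eG.eq, ← mul_assoc, mul_inv_cancel_right]
    rw [e1, _root_.mul_inv_rev, mul_assoc, mul_inv_cancel_left, sympTransElem_inv, sympTransElem_mul, sub_eq_add_neg]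
  have hne : α * γ - γ ≠ 0 := by
    have hα1 : α ≠ 1 := fun e => hc2 (Units.ext (by simpa [hα] using e))
    have hα0 : α ≠ 0 := by simp [hα]
    rw [← sub_one_mul, hγ, ← mul_one_sub]
    exact mul_ne_zero (sub_ne_zero.2 hα1) (mul_ne_zero hα0 (sub_ne_zero.2 fun e => hα1 e.symm))
  have hE : InX L (ev 0 : V) := by
    intro t
    refine all_of_squares (P := fun t => sympTransElem (ev 0 : V) t ∈ L)
      (fun s t hs ht => by rw [← sympTransElem_mul]; exact L.mul_mem hs ht)
      (fun s hs => by rw [← sympTransElem_inv]; exact L.inv_mem hs) hne (fun z => ?_) t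
    by_cases hz : z = 0
    · subst hz; simp [sympTransElem_zero, L.one_mem]
    obtain ⟨k, hk⟩ := hpow (Units.mk0 z hz)
    have := L.mul_mem (L.mul_mem (L.pow_mem hh k) hl) (L.inv_mem (L.pow_mem hh k))
    rw [sympTransElem_conj, torElem_pow, torElem_ev, sympTransElem_smul, Pi.pow_apply, hd0, hk, Units.val_mk0] at this
    rwa [← pow_two]
  have hσ : shift ∈ L := by
    have := L.mul_mem (L.inv_mem (hE 1)) hbL
    rwa [hT, inv_mul_cancel_left] at this
  have hev := inX_ev_all hσ hE
  have hf0 : InX L (fv 0 : V) := by rw [← shift_ev_last]; exact (hev _).map hσ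
  -- the short root subgroup
  have horth' : B (ev 1 : V) (ev 0) = 0 := by rw [form_ev]; simp [ev]
  have hU' : shortElem (ev 1 : V) (ev 0) (-1) ∈ L := by
    have := L.mul_mem (L.mul_mem hσ hUL) (L.inv_mem hσ)
    have e1 : spVec shift (ev 0 : V) = ev 1 := by simpa using shift_ev (F := F) (0 : Fin (n + 1))
    rwa [hU, shortElem_conj, shift_fv_last, e1, ← one_smul F (ev 1 : V), shortElem_smul horth', one_mul,
      mul_one] at this
  have hS : ∀ t : F, shortElem (ev 1 : V) (ev 0) t ∈ L := by
    intro t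
    refine all_of_squares (P := fun t => shortElem (ev 1 : V) (ev 0) t ∈ L)
      (fun s t hs ht => by rw [← shortElem_add horth']; exact L.mul_mem hs ht)
      (fun s hs => by rw [← shortElem_inv horth']; exact L.inv_mem hs) (neg_ne_zero.2 (one_ne_zero (α := F)))
      (fun z => ?_) t
    by_cases hz : z = 0
    · subst hz; simp [shortElem_zero, L.one_mem]
    obtain ⟨u, hu⟩ : ∃ u : Fˣ, ((((if (1 : Fin (n + 2)) = lastI then u else 1) : Fˣ) : F) * u) = z * z := by
      by_cases hl : (1 : Fin (n + 2)) = lastI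
      · exact ⟨Units.mk0 z hz, by simp [hl]⟩
      · exact ⟨Units.mk0 (z * z) (mul_ne_zero hz hz), by simp [hl]⟩
    obtain ⟨k, hk⟩ := hpow u
    have := L.mul_mem (L.mul_mem (L.pow_mem hh k) hU') (L.inv_mem (L.pow_mem hh k))
    rw [shortElem_conj, torElem_pow, torElem_ev, torElem_ev, shortElem_smul horth', Pi.pow_apply, Pi.pow_apply,
      hd0, hk] at this
    convert this using 2
    rw [← hu]
    have h10 : (1 : Fin (n + 2)) ≠ 0 := by simp
    by_cases hl : (1 : Fin (n + 2)) = lastI
    · rw [if_pos hl, show d 1 = c by simp [hd, hl], hk]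
    · rw [if_neg hl, show d 1 = 1 by simp [hd, hl, h10]]; simp
  refine eq_top_of_shift hσ hE hf0 fun t => ?_
  have := L.mul_mem (L.mul_mem (hS t) (hev 0 t)) (hev 1 t)
  convert this using 1
  refine spVec_ext fun x => ?_
  have h01 : B (ev 0 : V) (ev 1) = 0 := by rw [form_ev]; simp [ev]
  simp only [spVec_mul, spVec_sympTransElem, spVec_shortElem horth', sympForm_add_left, sympForm_smul_left,
    sympForm_add_right, Forms.sympForm_self, horth', h01]
  module

theorem pow_mem_of_comm {T z : Sp} {L : Subgroup Sp} {v : V} (hL : z * sympTransElem v 1 ∈ L)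
    (hT : T = sympTransElem v 1) (hc : Commute z T) {k : ℕ} (hz : z ^ k = 1) :
    sympTransElem v (k : F) ∈ L := by
  subst hT
  have := L.pow_mem hL k
  rwa [hc.mul_pow, hz, one_mul, sympTrans_pow, mul_one] at this

theorem inX_of_prime_card [Finite F] (hq : (Nat.card F).Prime) {v : V} {β : F} (hβ : β ≠ 0)
    (h : sympTransElem v β ∈ L) : InX L v := by
  intro t
  have : Fact (Nat.card F).Prime := ⟨hq⟩
  let A : AddSubgroup F :=
    { carrier := {u | sympTransElem v u ∈ L}
      zero_mem' := by simp [sympTransElem_zero, L.one_mem]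
      add_mem' := fun {u w} hu hw => by simpa [sympTransElem_mul] using L.mul_mem hu hw
      neg_mem' := fun {u} hu => by simpa [sympTransElem_inv] using L.inv_mem hu }
  have ht : t ∈ AddSubgroup.zmultiples β := by rw [zmultiples_eq_top_of_prime_card rfl hβ]; trivial
  exact AddSubgroup.zmultiples_le.2 (show β ∈ A from h) ht

theorem planeElem_comm {i : Fin (n + 2)} {v : V} (hl : v (.inl i) = 0) (hr : v (.inr i) = 0) (c : F) :
    Commute (planeElem i) (sympTransElem v c) :=
  (sympTrans_comm (by rw [Forms.sympForm_comm, form_ev, hr, neg_zero]) _ _).mul_left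
    (sympTrans_comm (by rw [Forms.sympForm_comm, form_fv, hl, neg_zero, neg_zero]) _ _)

theorem exists_gen_small [Finite F] {p : ℕ} (hp23 : p = 2 ∨ p = 3) (hcard : Nat.card F = p) (hn : 1 ≤ n) :
    ∃ a b : Sp, Subgroup.closure ({a, b} : Set Sp) = ⊤ := by
  have hprime : (Nat.card F).Prime := by rw [hcard]; rcases hp23 with rfl | rfl <;> norm_num
  have hp : (p : F) = 0 := by
    haveI ftF : Fintype F := Fintype.ofFinite F
    rw [← hcard, Nat.card_eq_fintype_card, FiniteField.cast_card_eq_zero]
  set i2 : Fin (n + 2) := ⟨2, by omega⟩ with hi2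
  set w : V := ev 0 + ev 1 with hw
  have hwl : w (.inl i2) = 0 := by simp [hw, ev, hi2, Fin.ext_iff]
  have hwr : w (.inr i2) = 0 := by simp [hw, ev]
  obtain ⟨k, hk, hzk⟩ := exists_pow_planeElem (F := F) i2 hp23 hp
  refine ⟨planeElem i2 * sympTransElem w 1, shift, ?_⟩
  set L := Subgroup.closure ({planeElem i2 * sympTransElem w 1, shift} : Set Sp)
  have haL : planeElem i2 * sympTransElem w 1 ∈ L := Subgroup.subset_closure (Or.inl rfl)
  have hσ : shift ∈ L := Subgroup.subset_closure (Or.inr rfl)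
  have hW : InX L w := inX_of_prime_card hprime hk
    (pow_mem_of_comm haL rfl (planeElem_comm hwl hwr 1) hzk)
  have hz : planeElem i2 ∈ L := by simpa using L.mul_mem haL (L.inv_mem (hW 1))
  have e2 : spVec shift (spVec shift (ev 0 : V)) = ev i2 := by
    rw [show (0 : Fin (n + 2)) = (0 : Fin (n + 1)).castSucc from rfl, shift_ev,
      show (0 : Fin (n + 1)).succ = (⟨1, by omega⟩ : Fin (n + 1)).castSucc from rfl, shift_ev]
    rfl
  have f2 : spVec shift (spVec shift (fv 0 : V)) = fv i2 := by
    rw [show (0 : Fin (n + 2)) = (0 : Fin (n + 1)).castSucc from rfl, shift_fv,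
      show (0 : Fin (n + 1)).succ = (⟨1, by omega⟩ : Fin (n + 1)).castSucc from rfl, shift_fv]
    rfl
  have hz0 : planeElem (0 : Fin (n + 2)) ∈ L := by
    have e : (shift * shift) * planeElem (F := F) 0 * (shift * shift)⁻¹ = planeElem i2 := by
      rw [planeElem, planeElem, ← e2, ← f2, ← spVec_mul, ← spVec_mul, ← sympTransElem_conj, ← sympTransElem_conj]
      group
    have : planeElem (F := F) (0 : Fin (n + 2)) = (shift * shift)⁻¹ * planeElem i2 * (shift * shift) := by
      rw [← e]; group
    rw [this]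
    exact L.mul_mem (L.mul_mem (L.inv_mem (L.mul_mem hσ hσ)) hz) (L.mul_mem hσ hσ)
  have hx : InX L (w + (1 : F) • (ev 0 + fv 0)) := by
    have := hW.map hz0
    convert this using 1
    rw [spVec_planeElem]
    simp only [hw, ev, Pi.add_apply, Pi.single_eq_same, ne_eq, Sum.inl.injEq, Fin.one_eq_zero_iff,
      Nat.add_eq_right, Nat.succ_ne_zero, not_false_eq_true, Pi.single_eq_of_ne, add_zero,
      Pi.single_eq_of_ne (show Sum.inr (0 : Fin (n + 2)) ≠ Sum.inl (0 : Fin (n + 2)) by simp),
      Pi.single_eq_of_ne (show Sum.inr (0 : Fin (n + 2)) ≠ Sum.inl (1 : Fin (n + 2)) by simp),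
      Pi.single_eq_of_ne (show Sum.inl (0 : Fin (n + 2)) ≠ Sum.inl (1 : Fin (n + 2)) by simp)]
    module
  have hy : InX L (ev 0 + fv 0 : V) := by
    have hB : B (w + (1 : F) • (ev 0 + fv 0)) w ≠ 0 := by
      simp only [hw, sympForm_add_right, form_ev]
      simp [ev, fv]
    have := hx.add_smul hW hB (-1)
    rwa [show w + (1 : F) • (ev 0 + fv 0) + (-1 : F) • w = ev 0 + fv 0 by module] at this
  have hzy := hy.map hz0
  have ev' : spVec (planeElem 0) (ev 0 + fv 0 : V) = (3 : F) • ev 0 + (2 : F) • fv 0 := by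
    rw [spVec_planeElem]
    simp [ev, fv]
    module
  rw [ev'] at hzy
  have hB : B (ev 0 + fv 0 : V) ((3 : F) • ev 0 + (2 : F) • fv 0) ≠ 0 := by
    simp only [sympForm_add_right, sympForm_smul_right, form_ev, form_fv]
    simp [ev, fv]
    norm_num
  refine eq_top_of_shift hσ ?_ ?_ hW
  · convert hy.comb hzy hB (-2) 1 using 1; module
  · convert hy.comb hzy hB 3 (-1) using 1; module

theorem exists_gen_four [Finite F] (hcard : Nat.card F = 3) :
    ∃ a b : Matrix.symplecticGroup (Fin 2) F,
      Subgroup.closure ({a, b} : Set (Matrix.symplecticGroup (Fin 2) F)) = ⊤ := by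
  have hprime : (Nat.card F).Prime := by rw [hcard]; norm_num
  have hp : ((3 : ℕ) : F) = 0 := by
    haveI ftF : Fintype F := Fintype.ofFinite F
    rw [← hcard, Nat.card_eq_fintype_card, FiniteField.cast_card_eq_zero]
  have h20 : (2 : F) ≠ 0 := fun e => by
    push_cast at hp
    exact one_ne_zero (α := F) (by linear_combination hp - e)
  obtain ⟨k, hk, hzk⟩ := exists_pow_planeElem (F := F) (1 : Fin 2) (Or.inr rfl) hp
  set w : Fin 2 ⊕ Fin 2 → F := ev 0 + ev 1 with hw
  set b : Matrix.symplecticGroup (Fin 2) F := sympTransElem w 1 * shift (n := 0) with hb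
  refine ⟨planeElem 1 * sympTransElem (ev 0) 1, b, ?_⟩
  set L := Subgroup.closure ({planeElem 1 * sympTransElem (ev 0) 1, b} : Set (Matrix.symplecticGroup (Fin 2) F))
  have haL : planeElem 1 * sympTransElem (ev 0) 1 ∈ L := Subgroup.subset_closure (Or.inl rfl)
  have hbL : b ∈ L := Subgroup.subset_closure (Or.inr rfl)
  have he0 : InX L (ev 0 : Fin 2 ⊕ Fin 2 → F) := inX_of_prime_card hprime hk
    (pow_mem_of_comm haL rfl (planeElem_comm (by simp [ev]) (by simp [ev]) 1) hzk)
  have hz : planeElem (1 : Fin 2) ∈ L := by simpa using L.mul_mem haL (L.inv_mem (he0 1))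
  have s0 : spVec (shift (n := 0)) (ev 0 : Fin 2 ⊕ Fin 2 → F) = ev 1 := shift_ev (F := F) (0 : Fin 1)
  have s1 : spVec (shift (n := 0)) (ev 1 : Fin 2 ⊕ Fin 2 → F) = fv 0 := shift_ev_last (F := F) (n := 0)
  have he1 : InX L (ev 1 : Fin 2 ⊕ Fin 2 → F) := by
    have := he0.map hbL
    rwa [hb, spVec_mul, s0, spVec_sympTransElem, hw, sympForm_add_right, form_ev, form_ev,
      show (ev 1 : Fin 2 ⊕ Fin 2 → F) (.inr 0) = 0 by simp [ev],
      show (ev 1 : Fin 2 ⊕ Fin 2 → F) (.inr 1) = 0 by simp [ev], add_zero, mul_zero, zero_smul, add_zero] at this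
  have hf1 : InX L (fv 1 : Fin 2 ⊕ Fin 2 → F) := by
    have h1 := he1.map hz
    have e : spVec (planeElem 1) (ev 1 : Fin 2 ⊕ Fin 2 → F) = (2 : F) • ev 1 + fv 1 := by
      rw [spVec_planeElem]; simp [ev, fv]; module
    rw [e] at h1
    have hB : Cfsg.sympForm 2 F (ev 1 : Fin 2 ⊕ Fin 2 → F) ((2 : F) • ev 1 + fv 1) ≠ 0 := by
      simp only [sympForm_add_right, sympForm_smul_right, form_ev, form_fv]
      simp [ev]
    convert he1.comb h1 hB (-2) 1 using 1
    module
  have hP : ∀ v : Fin 2 ⊕ Fin 2 → F, SuppIn {1} v → InX L v := fun v hv => inX_plane he1 hf1 hv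
  have hx : InX L (fv 0 + ev 1 : Fin 2 ⊕ Fin 2 → F) := by
    have h := he1.map hbL
    rw [hb, spVec_mul, s1, spVec_sympTransElem, hw, sympForm_add_right, form_ev, form_ev] at h
    simp [fv] at h
    change InX L (fv 0 + (ev 0 + ev 1)) at h
    have hB : Cfsg.sympForm 2 F (fv 0 + (ev 0 + ev 1) : Fin 2 ⊕ Fin 2 → F) (ev 0) ≠ 0 := by
      simp only [form_ev]
      simp [ev, fv]
    have := h.add_smul he0 hB (-1)
    rwa [show fv 0 + (ev 0 + ev 1) + (-1 : F) • ev 0 = (fv 0 + ev 1 : Fin 2 ⊕ Fin 2 → F) by module] at this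
  have hd : Disjoint ({1} : Set (Fin 2)) {0} := by simp
  have s_e1 : SuppIn ({1} : Set (Fin 2)) (ev 1 : Fin 2 ⊕ Fin 2 → F) := suppIn_ev 1
  have s_f0 : SuppIn ({0} : Set (Fin 2)) (fv 0 : Fin 2 ⊕ Fin 2 → F) := suppIn_fv 0
  have hv' : InX L ((-1 : F) • ev 1 + fv 0 : Fin 2 ⊕ Fin 2 → F) := by
    refine InX.move hd hP s_e1 (fun i hi => ?_) s_f0 (by simp [ev]) (by simp [ev]) (by rwa [add_comm] at hx)
    simp [(s_e1 i hi).1, (s_e1 i hi).2]
  have hu : InX L (ev 0 + (fv 0 + ev 1) : Fin 2 ⊕ Fin 2 → F) := by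
    have := he0.add_smul hx (by simp only [sympForm_add_right, form_ev, form_fv]; simp [ev]) 1
    rwa [one_smul] at this
  have hr : InX L (ev 0 + (2 : F) • ev 1 : Fin 2 ⊕ Fin 2 → F) := by
    have hB : Cfsg.sympForm 2 F (ev 0 + (fv 0 + ev 1)) ((-1 : F) • ev 1 + fv 0 : Fin 2 ⊕ Fin 2 → F) ≠ 0 := by
      simp only [sympForm_add_right, sympForm_smul_right, form_ev, form_fv]
      simp [ev, fv]
    convert hu.comb hv' hB 1 (-1) using 1
    module
  have hf0 : InX L (fv 0 : Fin 2 ⊕ Fin 2 → F) := by
    have hB : Cfsg.sympForm 2 F (ev 0 + (2 : F) • ev 1) (fv 0 + ev 1 : Fin 2 ⊕ Fin 2 → F) ≠ 0 := by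
      simp only [sympForm_add_right, form_ev, form_fv]
      simp [ev]
    have h := hr.comb hx hB 1 (-2)
    rw [show (1 : F) • (ev 0 + (2 : F) • ev 1) + (-2 : F) • (fv 0 + ev 1)
      = (ev 0 + (-2 : F) • fv 0 : Fin 2 ⊕ Fin 2 → F) by module] at h
    have hB2 : Cfsg.sympForm 2 F (ev 0 : Fin 2 ⊕ Fin 2 → F) (ev 0 + (-2 : F) • fv 0) ≠ 0 := by
      simp only [sympForm_add_right, sympForm_smul_right, form_ev, form_fv]
      simp [ev, h20]
    convert he0.comb h hB2 ((2 : F)⁻¹) (-(2 : F)⁻¹) using 1
    match_scalars <;> field_simp <;> ring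
  refine eq_top_of_planes (fun i => ?_) (fun i => ?_) fun i j hij =>
    ⟨fv 0, ev 1, ?_, ?_, by simp [fv], by simp [ev], hx⟩
  · fin_cases i <;> assumption
  · fin_cases i <;> assumption
  · rw [show i = 0 from Fin.ext (by have := i.isLt; have := j.isLt; show (i : ℕ) = 0; omega)]; exact s_f0
  · rw [show j = 1 from Fin.ext (by have := i.isLt; have := j.isLt; show (j : ℕ) = 1; omega)]; exact s_e1

end Cfsg.Agent.Lib.SympGen
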